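import Groth.Agent.S2384
import Groth.Agent.S9514
import Groth.Agent.Lib.Helper49.FiniteTypeAffine
import Groth.Agent.Lib.Helper49.CohNoeth

/-!
# Coherent modules on a locally Noetherian scheme form a thick (weak Serre) subcategory (helper16)

* `isFiniteType_of_extension` : extension of qcoh finite type modules is of finite type (any scheme)
* `isCoh_of_extension` : `Coh.IsCoh` is closed under extensions (any scheme)
* instances: `Coh.IsCoh` (as an `ObjectProperty X.Modules`) is closed under isomorphisms, contains
  zero, closed under extensions (any scheme), kernels and cokernels (locally Noetherian).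
-/

set_option autoImplicit false
universe u

namespace Groth.Agent.Lib.Helper16

namespace CohThick

open AlgebraicGeometry CategoryTheory CategoryTheory.Limits ZeroObject

/-- On `Spec R`: extension of qcoh finite type modules is of finite type. -/
theorem isFiniteType_of_extension_Spec (R : CommRingCat.{u}) (S : ShortComplex (Spec R).Modules)
    (hS : S.ShortExact) (h1 : S.X₁.IsQuasicoherent) (h3 : S.X₃.IsQuasicoherent)
    (f1 : SheafOfModules.IsFiniteType (R := (Spec R).ringCatSheaf) S.X₁)
    (f3 : SheafOfModules.IsFiniteType (R := (Spec R).ringCatSheaf) S.X₃) :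
    SheafOfModules.IsFiniteType (R := (Spec R).ringCatSheaf) S.X₂ := by
  have h2 : S.X₂.IsQuasicoherent := Groth.Agent.S2384.qcoh_of_extension_Spec R S hS h1 h3
  have hadj : (moduleSpecΓFunctor (R := R)).IsRightAdjoint :=
    (tilde.adjunction (R := R)).isRightAdjoint
  have hex : (S.map (moduleSpecΓFunctor (R := R))).Exact :=
    hS.exact.map_of_mono_of_preservesKernel _ hS.mono_f inferInstance
  have hsurj : Function.Surjective ((moduleSpecΓFunctor (R := R)).map S.g) := by
    intro t
    have hH : Subsingleton (Coh.HH (Spec R) S.X₁ 1) :=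
      Groth.Agent.S0007.result (Spec R) S.X₁ 1 one_pos
    obtain ⟨s, hs⟩ :=
      Groth.Agent.Lib.Helper1.exists_lift_sections_of_subsingleton_HH_one hS hH t
    exact ⟨s, hs⟩
  rw [Groth.Agent.Lib.Helper49.isFiniteType_iff_finite_Γ] at f1 f3 ⊢
  have hex' := (ShortComplex.ShortExact.moduleCat_exact_iff_function_exact
    (S.map (moduleSpecΓFunctor (R := R)))).1 hex
  have i1 : Module.Finite ↑R ↑((moduleSpecΓFunctor (R := R)).obj S.X₁) := f1
  have i3 : Module.Finite ↑R ↑((moduleSpecΓFunctor (R := R)).obj S.X₃) := f3
  change Module.Finite ↑R ↑((moduleSpecΓFunctor (R := R)).obj S.X₂)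
  exact Module.Finite.of_exact (f := ((moduleSpecΓFunctor (R := R)).map S.f).hom)
    (g := ((moduleSpecΓFunctor (R := R)).map S.g).hom) hex' hsurj

/-- Extension of qcoh finite type modules is of finite type (any scheme). -/
theorem isFiniteType_of_extension {X : Scheme.{u}} (S : ShortComplex X.Modules)
    (hS : S.ShortExact) (h1 : S.X₁.IsQuasicoherent) (h3 : S.X₃.IsQuasicoherent)
    (f1 : SheafOfModules.IsFiniteType (R := X.ringCatSheaf) S.X₁)
    (f3 : SheafOfModules.IsFiniteType (R := X.ringCatSheaf) S.X₃) :
    SheafOfModules.IsFiniteType (R := X.ringCatSheaf) S.X₂ := by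
  refine Groth.Agent.Lib.Helper49.isFiniteType_of_forall_fromSpec _ fun U => ?_
  have hU : IsAffineOpen U.1 := U.2
  have e1 : (S.X₁.restrict hU.fromSpec).IsQuasicoherent :=
    Scheme.Modules.isQuasicoherent_restrictFunctor _ _
  have e3 : (S.X₃.restrict hU.fromSpec).IsQuasicoherent :=
    Scheme.Modules.isQuasicoherent_restrictFunctor _ _
  exact isFiniteType_of_extension_Spec Γ(X, U.1)
    (S.map (Scheme.Modules.restrictFunctor hU.fromSpec)) (hS.map_of_exact _) e1 e3
    (Groth.Agent.Lib.Helper49.isFiniteType_restrict _ _ f1)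
    (Groth.Agent.Lib.Helper49.isFiniteType_restrict _ _ f3)

/-- `Coh.IsCoh` is closed under extensions (any scheme). -/
theorem isCoh_of_extension {X : Scheme.{u}} (S : ShortComplex X.Modules)
    (hS : S.ShortExact) (h1 : Coh.IsCoh S.X₁) (h3 : Coh.IsCoh S.X₃) : Coh.IsCoh S.X₂ :=
  ⟨Groth.Agent.S2384.result S hS h1.1 h3.1,
    isFiniteType_of_extension S hS h1.1 h3.1 h1.2 h3.2⟩

/-- `Coh.IsCoh` is invariant under isomorphisms. -/
theorem isCoh_of_iso {X : Scheme.{u}} {M N : X.Modules} (e : M ≅ N) (h : Coh.IsCoh M) :
    Coh.IsCoh N :=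
  ⟨Groth.Agent.Lib.Helper49.isQuasicoherent_of_iso e h.1,
    Groth.Agent.Lib.Helper49.isFiniteType_of_iso e h.2⟩

/-- A zero object of `X.Modules` is coherent. -/
theorem isCoh_of_isZero {X : Scheme.{u}} {Z : X.Modules} (hZ : IsZero Z) : Coh.IsCoh Z := by
  constructor
  · have h := Groth.Agent.Lib.Helper49.isQuasicoherent_finite_limit
      (Functor.empty.{0} X.Modules) (fun j => j.as.elim)
    exact Groth.Agent.Lib.Helper49.isQuasicoherent_of_iso
      (hZ.isoZero ≪≫ (HasZeroObject.zeroIsoTerminal (C := X.Modules))).symm h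
  · let G : Z.GeneratingSections :=
      { I := PEmpty
        s := fun i => i.elim
        epi := hZ.epi _ }
    have : G.IsFiniteType := ⟨inferInstanceAs (Finite PEmpty)⟩
    exact Groth.Agent.Lib.Helper49.isFiniteType_of_generatingSections G

section Instances

variable (X : Scheme.{u})

/-- `Coh.IsCoh` as an object property of `X.Modules`. -/
abbrev cohP : ObjectProperty X.Modules := fun M : X.Modules => Coh.IsCoh M

instance : (cohP X).IsClosedUnderIsomorphisms where
  of_iso e h := isCoh_of_iso e h

instance : (cohP X).ContainsZero where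
  exists_zero := ⟨0, isZero_zero _, isCoh_of_isZero (isZero_zero _)⟩

instance : (cohP X).IsClosedUnderExtensions where
  prop_X₂_of_shortExact hS h1 h3 := isCoh_of_extension _ hS h1 h3

instance [IsLocallyNoetherian X] : (cohP X).IsClosedUnderKernels where
  kernels_le := by
    rintro _ ⟨f, k, hk, hf⟩
    have h := (Groth.Agent.S9514.result X hf.1 hf.2 f).1
    exact isCoh_of_iso (IsLimit.conePointUniqueUpToIso (kernelIsKernel f) hk) h

instance [IsLocallyNoetherian X] : (cohP X).IsClosedUnderCokernels where
  cokernels_le := by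
    rintro _ ⟨f, k, hk, hf⟩
    have h := (Groth.Agent.S9514.result X hf.1 hf.2 f).2
    exact isCoh_of_iso (IsColimit.coconePointUniqueUpToIso (cokernelIsCokernel f) hk) h

end Instances

end CohThick

end Groth.Agent.Lib.Helper16
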